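import Cfsg.Agent.Helper80.Tor.Defs
import Cfsg.Agent.Helper18.TorusH
import Cfsg.Agent.Helper18.Weyl
import Cfsg.Agent.Helper36.Unimod

/-!
# helper51: the Chevalley side (`TorData`) of helper80's torus theorems S2372 (`F₄`) and S2375 (`E₈`)

Shared definitions for the pieces of sub-farm (DF4)/(DE8) of #13336.  Everything is generic in the
Chevalley datum `D`.

* `chi D s c` : the value of the root `s` on the torus element `torusHom D K c = ∏ h_{p_i}(c_i)`,
  `chi D s c = ∏ i, c i ^ D.cartan i s` (the diagonal entry of `torusHom D K c` at the root `s`).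
* `reflM D i` : the integer matrix of the simple reflection `s_i` on torus coordinates, in helper18's
  `zact` convention (`zact M c j = ∏ k, c k ^ M k j`):  `n_i · torusHom c · n_i⁻¹ = torusHom (zact (reflM D i) c)`.
* `frobE F K` : the Frobenius `x ↦ x ^ #F` of the finite field `K ⊇ F` as a ring automorphism.
* Boolean checks `reflOK`, `sepOK` (decidable facts about the Cartan integers of `D`).
-/

set_option autoImplicit false

namespace Cfsg.Agent.Helper51.TorD

open Cfsg Cfsg.Lie Cfsg.Agent.Helper18 Cfsg.Agent.Helper80.Tor

/-- the value of the root `s` on the torus element with coordinates `c` -/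
def chi (D : ChevalleyDatum) {K : Type*} [Field K] (s : ℕ) (c : Fin D.rank → Kˣ) : Kˣ :=
  ∏ i : Fin D.rank, c i ^ D.cartan i.val s

/-- the matrix of the simple reflection `s_i` on the torus coordinates (`zact` convention) -/
def reflM (D : ChevalleyDatum) (i : Fin D.rank) : Matrix (Fin D.rank) (Fin D.rank) ℤ :=
  Matrix.of fun k j => (if k = j then 1 else 0) - (if j = i then D.cartan k.val (D.simple i.val) else 0)

/-- the simple reflections are involutions of the set of roots, and
`⟨s_i(s), p_k^∨⟩ = ⟨s, p_k^∨⟩ - ⟨s, p_i^∨⟩ ⟨p_i, p_k^∨⟩` for all roots `s` -/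
def reflOK (D : ChevalleyDatum) : Bool :=
  (List.range D.rank).all fun i => (List.range D.nroots).all fun s =>
    decide (D.reflectRoot i s < D.nroots) && decide (D.reflectRoot i (D.reflectRoot i s) = s) &&
    (List.range D.rank).all fun k =>
      decide (D.cartan k (D.reflectRoot i s) = D.cartan k s - D.cartan i s * D.cartan k (D.simple i))

/-- distinct roots have distinct columns of Cartan integers, all Cartan integers are at most `3` in
absolute value, and `⟨-s, p_k^∨⟩ = -⟨s, p_k^∨⟩` -/
def sepOK (D : ChevalleyDatum) : Bool :=
  ((List.range D.nroots).all fun s => (List.range D.nroots).all fun s' =>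
    (s == s') || (List.range D.rank).any fun k => decide (D.cartan k s ≠ D.cartan k s')) &&
  ((List.range D.nroots).all fun s => (List.range D.rank).all fun k =>
    decide (-3 ≤ D.cartan k s) && decide (D.cartan k s ≤ 3) &&
    decide (D.cartan k (D.neg s) = - D.cartan k s) && decide (D.neg s < D.nroots))

section Frob

variable (F K : Type*) [Field F] [Fintype F] [Field K] [Fintype K] [Algebra F K]

/-- the Frobenius `x ↦ x ^ #F` of `K` as a ring automorphism -/
noncomputable def frobE : K ≃+* K :=
  RingEquiv.ofBijective (frobK F K)
    ((Finite.injective_iff_bijective).mp (frobK F K).injective)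

theorem frobE_apply (x : K) : frobE F K x = x ^ Fintype.card F := rfl

theorem coe_frobE : ((frobE F K : K ≃+* K) : K →+* K) = frobK F K := rfl

end Frob

end Cfsg.Agent.Helper51.TorD
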